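import Cfsg.Agent.Helper96.M22c.CertX.Facts0
import Cfsg.Agent.Helper96.M22c.CertX.Misc
import Cfsg.Agent.Helper96.M22c.CertX.Perm0
set_option autoImplicit false
namespace Cfsg.Agent.Helper96.M22c.CertX
open Cfsg.Agent.Helper28
theorem perm_all : ∀ r, 0 ≤ r → r < 2 → relOk ptabs (tabs.word r) 0 ptabs.n = true := by
  intro r h1 h2
  by_cases c2 : r < 2
  · exact permRange_sound ptabs tabs.word letTr.get 3 7 perm_eq 0 2 perm_ok_0 r (by omega) (by omega)
  omega
theorem subfix_all : ∀ r, r < 0 → relOk ptabs (tabs.word r) 0 1 = true := allLt_sound _ _ subfix_ok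
end Cfsg.Agent.Helper96.M22c.CertX
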